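import Groth.Prelude.Def_CurvBase
import Groth.Agent.Lib.Descend.BaseChangeAt
import Mathlib.AlgebraicGeometry.Morphisms.Preimmersion
import Mathlib.AlgebraicGeometry.Morphisms.Flat
import Mathlib.RingTheory.IntegralClosure.IntegrallyClosed

/-!
# Local rings of a base change of a `k`-scheme to a field
-/

universe u

set_option autoImplicit false
set_option linter.style.haveILetI false

open AlgebraicGeometry CategoryTheory CategoryTheory.Limits TensorProduct

attribute [local instance] Curv2.stalkAlgebra

namespace Groth.Agent.GeomNorm15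

/-- A flat morphism which is surjective on stalks induces isomorphisms on stalks. -/
theorem bijective_stalkMap {X Y : Scheme.{u}} (f : X ⟶ Y) [Flat f] [SurjectiveOnStalks f] (x : X) :
    Function.Bijective (f.stalkMap x).hom := by
  refine ⟨?_, f.stalkMap_surjective x⟩
  algebraize [(f.stalkMap x).hom]
  have : Module.FaithfullyFlat (Y.presheaf.stalk (f x)) (X.presheaf.stalk x) :=
    @Module.FaithfullyFlat.of_flat_of_isLocalHom _ _ _ _ _ _ _
      (Flat.stalkMap f x) (f.toLRSHom.prop x)
  exact ‹RingHom.FaithfullyFlat _›.injective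

/-- Being a normal domain passes along ring isomorphisms. -/
theorem normal_of_ringEquiv {R S : Type u} [CommRing R] [CommRing S] (e : R ≃+* S)
    (h : IsDomain R ∧ IsIntegrallyClosed R) : IsDomain S ∧ IsIntegrallyClosed S := by
  haveI := h.1
  haveI := h.2
  haveI : IsDomain S := e.symm.toMulEquiv.isDomain
  exact ⟨‹_›, IsIntegrallyClosed.of_equiv e⟩

/-- A prime inside a prime with normal local ring has normal local ring. -/
theorem normal_atPrime_of_le {R : Type u} [CommRing R] (P M : Ideal R) [P.IsPrime] [M.IsPrime]
    (hPM : P ≤ M) (h : IsDomain (Localization.AtPrime M) ∧ IsIntegrallyClosed (Localization.AtPrime M)) :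
    IsDomain (Localization.AtPrime P) ∧ IsIntegrallyClosed (Localization.AtPrime P) := by
  haveI := h.1
  haveI := h.2
  have hdisj : Disjoint (M.primeCompl : Set R) P :=
    Set.disjoint_left.2 fun a ha ha' => ha (hPM ha')
  haveI : (P.map (algebraMap R (Localization.AtPrime M))).IsPrime :=
    IsLocalization.isPrime_of_isPrime_disjoint M.primeCompl _ P ‹_› hdisj
  let P' := P.map (algebraMap R (Localization.AtPrime M))
  have hp : P'.primeCompl ≤ nonZeroDivisors (Localization.AtPrime M) :=
    Ideal.primeCompl_le_nonZeroDivisors P'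
  have hc : P'.comap (algebraMap R (Localization.AtPrime M)) = P :=
    IsLocalization.comap_map_of_isPrime_disjoint M.primeCompl _ ‹_› hdisj
  haveI : IsLocalization.AtPrime (Localization.AtPrime P') P := by
    convert IsLocalization.isLocalization_isLocalization_atPrime_isLocalization M.primeCompl
      (Localization.AtPrime P') P' using 1
    exact hc.symm
  refine normal_of_ringEquiv (IsLocalization.algEquiv P.primeCompl (Localization.AtPrime P') _).toRingEquiv
    ⟨IsLocalization.isDomain_localization hp, isIntegrallyClosed_of_isLocalization _ P'.primeCompl hp⟩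

variable (k : Type u) [Field k] (X : Scheme.{u}) [X.Over (Spec (CommRingCat.of k))] (x : X)

theorem fromSpecStalk_structure :
    X.fromSpecStalk x ≫ (X ↘ Spec (CommRingCat.of k)) =
      Spec.map (CommRingCat.ofHom (algebraMap k (X.presheaf.stalk x))) := by
  let f := X ↘ Spec (CommRingCat.of k)
  have hf : f = X.toSpecΓ ≫ Spec.map ((Scheme.ΓSpecIso (CommRingCat.of k)).inv ≫ f.appTop) := by
    rw [Spec.map_comp, ← Category.assoc, ← Scheme.toSpecΓ_naturality, Category.assoc,
      toSpecΓ_SpecMap_ΓSpecIso_inv, Category.comp_id]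
  show X.fromSpecStalk x ≫ f = _
  rw [hf, Scheme.fromSpecStalk_toSpecΓ_assoc, ← Spec.map_comp]
  rfl

variable (k' : Type u) [Field k'] [Algebra k k']

/-- Every prime of `k' ⊗ 𝒪_x` gives a point of the base change with the same local ring; these are
the points over generalisations of `x`. -/
theorem exists_stalk_points :
    ∃ pt : PrimeSpectrum (k' ⊗[k] X.presheaf.stalk x) → ↥(Curv2.bc k X k'),
      (∀ P, Nonempty ((Curv2.bc k X k').presheaf.stalk (pt P) ≃+* Localization.AtPrime P.asIdeal)) ∧
      (∀ P, Curv2.bcFst k X k' (pt P) = X.fromSpecStalk x (PrimeSpectrum.comap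
        (Algebra.TensorProduct.includeRight (R := k) (A := k') (B := X.presheaf.stalk x)).toRingHom P)) ∧
      ∀ x', Curv2.bcFst k X k' x' = x → ∃ P, pt P = x' := by
  let R := k' ⊗[k] X.presheaf.stalk x
  let inr : Spec (CommRingCat.of R) ⟶ Spec (X.presheaf.stalk x) := Spec.map (CommRingCat.ofHom
    (Algebra.TensorProduct.includeRight (R := k) (A := k') (B := X.presheaf.stalk x)).toRingHom)
  let inl : Spec (CommRingCat.of R) ⟶ Spec (CommRingCat.of k') := Spec.map (CommRingCat.ofHom
    (Algebra.TensorProduct.includeLeftRingHom (R := k) (A := k') (B := X.presheaf.stalk x)))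
  have hsq : IsPullback inr inl (Spec.map (CommRingCat.ofHom (algebraMap k (X.presheaf.stalk x))))
      (Spec.map (CommRingCat.ofHom (algebraMap k k'))) :=
    (isPullback_SpecMap_of_isPushout _ _ _ _ (CommRingCat.isPushout_tensorProduct k k' ↑(X.presheaf.stalk x))).flip
  let q : Spec (CommRingCat.of R) ⟶ Curv2.bc k X k' := pullback.lift (inr ≫ X.fromSpecStalk x) inl
    (by rw [Category.assoc, fromSpecStalk_structure]; exact hsq.w)
  have hq : IsPullback q inr (Curv2.bcFst k X k') (X.fromSpecStalk x) := by
    refine IsPullback.of_right ?_ (pullback.lift_fst _ _ _)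
      (IsPullback.of_hasPullback (X ↘ Spec (CommRingCat.of k))
        (Spec.map (CommRingCat.ofHom (algebraMap k k')))).flip
    rw [fromSpecStalk_structure, pullback.lift_snd]
    exact hsq.flip
  haveI := Descend.flat_fromSpecStalk x
  haveI : Flat q := MorphismProperty.of_isPullback hq.flip inferInstance
  haveI : IsPreimmersion q := MorphismProperty.of_isPullback hq.flip inferInstance
  refine ⟨fun P => q P, fun P => ⟨?_⟩, fun P => ?_, fun x' hx' => ?_⟩
  · exact (RingEquiv.ofBijective _ (bijective_stalkMap q P)).trans
      (StructureSheaf.stalkIso R P).symm.toRingEquiv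
  · exact congrArg (fun g : Spec (CommRingCat.of R) ⟶ X => g P) hq.w
  · obtain ⟨z, hz⟩ : ∃ z : Spec (X.presheaf.stalk x), X.fromSpecStalk x z = x :=
      ⟨_, Scheme.fromSpecStalk_closedPoint⟩
    obtain ⟨P, h1, -⟩ := Scheme.exists_preimage_of_isPullback hq x' z (hx'.trans hz.symm)
    exact ⟨P, h1⟩

end Groth.Agent.GeomNorm15
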